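import Mathlib

/-!
# Elementary facts on pretriangulated categories
-/

set_option autoImplicit false
set_option backward.isDefEq.respectTransparency false
set_option backward.isDefEq.respectTransparency.types false
set_option linter.style.haveILetI false

universe v u v' u'

open CategoryTheory CategoryTheory.Limits CategoryTheory.Pretriangulated
open scoped ZeroObject

namespace CohDerLib

variable {D : Type u} [Category.{v} D] [Preadditive D] [HasZeroObject D] [HasShift D ℤ]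
  [∀ n : ℤ, (shiftFunctor D n).Additive] [Pretriangulated D]

lemma isZero₂_of_isZero₁₃ {T : Triangle D} (hT : T ∈ distinguishedTriangles) (h₁ : IsZero T.obj₁)
    (h₃ : IsZero T.obj₃) : IsZero T.obj₂ := by
  rw [IsZero.iff_id_eq_zero]
  obtain ⟨g, hg⟩ := T.coyoneda_exact₂ hT (𝟙 T.obj₂) (h₃.eq_of_tgt _ _)
  rw [hg, h₁.eq_of_tgt g 0, zero_comp]

/-- A triangle whose first morphism is zero splits. -/
lemma exists_iso_biprod_of_mor₁_eq_zero {T : Triangle D} (hT : T ∈ distinguishedTriangles) (h : T.mor₁ = 0) :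
    Nonempty (T.obj₃⟦(-1 : ℤ)⟧ ≅ T.obj₂⟦(-1 : ℤ)⟧ ⊞ T.obj₁) := by
  obtain ⟨e, -, -⟩ := exists_iso_binaryBiproduct_of_distTriang T.rotate (rot_of_distTriang _ hT) (by
    show -T.mor₁⟦(1 : ℤ)⟧' = 0
    rw [h, Functor.map_zero, neg_zero])
  haveI : PreservesBinaryBiproducts (shiftFunctor D (-1 : ℤ)) := preservesBinaryBiproducts_of_preservesBiproducts _
  exact ⟨(shiftFunctor D (-1 : ℤ)).mapIso e ≪≫ (shiftFunctor D (-1 : ℤ)).mapBiprod _ _ ≪≫
    biprod.mapIso (Iso.refl _) ((shiftEquiv D (1 : ℤ)).unitIso.app T.obj₁).symm⟩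

lemma isZero_of_retract {E : Type u'} [Category.{v'} E] {X Y : E} (hY : IsZero Y) (i : X ⟶ Y) (r : Y ⟶ X)
    (h : i ≫ r = 𝟙 X) : IsZero X :=
  ⟨fun Z => ⟨⟨⟨i ≫ hY.to_ Z⟩, fun a => by
      rw [← Category.id_comp a, ← h, Category.assoc, hY.eq_of_src (r ≫ a) (hY.to_ Z)]; rfl⟩⟩,
   fun Z => ⟨⟨⟨hY.from_ Z ≫ r⟩, fun a => by
      rw [← Category.comp_id a, ← h, ← Category.assoc, hY.eq_of_tgt (a ≫ i) (hY.from_ Z)]; rfl⟩⟩⟩

lemma exists_triangle_id (X : D) :
    ∃ (Z : D) (_ : IsZero Z) (g : X ⟶ Z) (h : Z ⟶ X⟦(1 : ℤ)⟧),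
      Triangle.mk (𝟙 X) g h ∈ distinguishedTriangles := by
  obtain ⟨Z, g, h, hT⟩ := distinguished_cocone_triangle (𝟙 X)
  exact ⟨Z, (Triangle.isZero₃_iff_isIso₁ _ hT).2 (inferInstanceAs (IsIso (𝟙 X))), g, h, hT⟩

section Compatible

variable (S : MorphismProperty D) [S.IsMultiplicative] [S.IsCompatibleWithTriangulation]

lemma mem_of_isIso {A B : D} (e : A ⟶ B) [IsIso e] : S e := by
  obtain ⟨Z, g, h, hT⟩ := distinguished_cocone_triangle (𝟙 A)
  let T₁ := (Triangle.mk (𝟙 A) g h).invRotate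
  have hT₁ : T₁ ∈ distinguishedTriangles := inv_rot_of_distTriang _ hT
  let T₂ := Triangle.mk T₁.mor₁ (T₁.mor₂ ≫ e) (inv e ≫ T₁.mor₃)
  have hT₂ : T₂ ∈ distinguishedTriangles :=
    isomorphic_distinguished _ hT₁ _ (Triangle.isoMk _ _ (Iso.refl _) (Iso.refl _) (asIso e).symm
      (by simp [T₂]) (by simp [T₂]) (by simp [T₂]))
  -- the third object of the rotated triangle is zero, so rotate again
  let U₁ := T₁.invRotate
  let U₂ := Triangle.mk U₁.mor₁ (U₁.mor₂ ≫ 𝟙 _) U₁.mor₃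
  obtain ⟨c, hc, hc₁, -⟩ := MorphismProperty.IsCompatibleWithTriangulation.compatible_with_triangulation
    (W := S) T₁ T₂ hT₁ hT₂ (𝟙 _) (𝟙 _) (MorphismProperty.id_mem S _) (MorphismProperty.id_mem S _) (by simp [T₂])
  have : c = e := by
    haveI : IsIso T₁.mor₂ := inferInstanceAs (IsIso (𝟙 A))
    rw [← cancel_epi T₁.mor₂, hc₁]
    exact Category.id_comp _
  exact this ▸ hc

lemma exists_lms2 {X Y X' : D} (f : X ⟶ Y) (t : X ⟶ X') (ht : S t) :
    ∃ (Y' : D) (f' : X' ⟶ Y') (s' : Y ⟶ Y'), S s' ∧ f ≫ s' = t ≫ f' := by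
  obtain ⟨Z, g, h, hT⟩ := distinguished_cocone_triangle f
  let T₁ := (Triangle.mk f g h).invRotate
  have hT₁ : T₁ ∈ distinguishedTriangles := inv_rot_of_distTriang _ hT
  obtain ⟨Y', f', h', hT₂⟩ := distinguished_cocone_triangle (T₁.mor₁ ≫ t)
  obtain ⟨c, hc, hc₁, -⟩ := MorphismProperty.IsCompatibleWithTriangulation.compatible_with_triangulation
    (W := S) T₁ _ hT₁ hT₂ (𝟙 _) t (MorphismProperty.id_mem S _) ht (by simp)
  exact ⟨Y', f', c, hc, hc₁⟩

lemma exists_rms2 {X Y Y' : D} (f : X ⟶ Y) (s : Y' ⟶ Y) (hs : S s) :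
    ∃ (X' : D) (f' : X' ⟶ Y') (t' : X' ⟶ X), S t' ∧ t' ≫ f = f' ≫ s := by
  obtain ⟨Z, g, h, hT⟩ := distinguished_cocone_triangle f
  let T₂ := (Triangle.mk f g h).rotate
  have hT₂ : T₂ ∈ distinguishedTriangles := rot_of_distTriang _ hT
  obtain ⟨W, h₁, h₂, hT₁⟩ := distinguished_cocone_triangle (s ≫ g)
  obtain ⟨c, hc, -, hc₂⟩ := MorphismProperty.IsCompatibleWithTriangulation.compatible_with_triangulation
    (W := S) _ T₂ hT₁ hT₂ s (𝟙 _) hs (MorphismProperty.id_mem S _) (by simp [T₂])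
  let e := (shiftEquiv D (1 : ℤ)).unitIso.app X
  let e' := (shiftEquiv D (1 : ℤ)).unitIso.app Y'
  refine ⟨W⟦(-1 : ℤ)⟧, -((shiftFunctor D (-1 : ℤ)).map h₂ ≫ e'.inv), c⟦(-1 : ℤ)⟧' ≫ e.inv,
    S.comp_mem _ _ ((MorphismProperty.IsCompatibleWithShift.iff S c (-1 : ℤ)).2 hc) (mem_of_isIso S _), ?_⟩
  have hc₂' : h₂ ≫ s⟦(1 : ℤ)⟧' = c ≫ (-f⟦(1 : ℤ)⟧') := hc₂
  have n1 : e.inv ≫ f = ((shiftFunctor D (-1 : ℤ)).map (f⟦(1 : ℤ)⟧')) ≫ ((shiftEquiv D (1 : ℤ)).unitIso.app Y).inv :=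
    ((shiftEquiv D (1 : ℤ)).unitIso.inv.naturality f).symm
  have n2 : e'.inv ≫ s = ((shiftFunctor D (-1 : ℤ)).map (s⟦(1 : ℤ)⟧')) ≫ ((shiftEquiv D (1 : ℤ)).unitIso.app Y).inv :=
    ((shiftEquiv D (1 : ℤ)).unitIso.inv.naturality s).symm
  rw [Category.assoc, Preadditive.neg_comp, Category.assoc, n1, n2, ← Functor.map_comp_assoc,
    ← Functor.map_comp_assoc, hc₂', Preadditive.comp_neg, Functor.map_neg, Preadditive.neg_comp, neg_neg]

end Compatible

section Localization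

variable (S : MorphismProperty D) [S.HasLeftCalculusOfFractions] [S.HasRightCalculusOfFractions]
  {E : Type u'} [Category.{v'} E] (Q : D ⥤ E) [Q.IsLocalization S]

include S

lemma isZero_obj_zero {O : D} (hO : IsZero O) : IsZero (Q.obj O) := by
  haveI := Localization.essSurj Q S
  constructor
  · intro Z
    refine ⟨⟨⟨Q.map (hO.to_ _) ≫ (Q.objObjPreimageIso Z).hom⟩, fun a => ?_⟩⟩
    obtain ⟨φ, hφ⟩ := Localization.exists_leftFraction Q S (a ≫ (Q.objObjPreimageIso Z).inv)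
    rw [← cancel_mono (Q.objObjPreimageIso Z).inv, hφ]
    show _ = (Q.map (hO.to_ _) ≫ (Q.objObjPreimageIso Z).hom) ≫ _
    rw [Category.assoc, Iso.hom_inv_id, Category.comp_id]
    haveI := Localization.inverts Q S _ φ.hs
    rw [← cancel_mono (Q.map φ.s), φ.map_comp_map_s, ← Q.map_comp, hO.eq_of_src φ.f (hO.to_ _ ≫ φ.s)]
  · intro Z
    refine ⟨⟨⟨(Q.objObjPreimageIso Z).inv ≫ Q.map (hO.from_ _)⟩, fun a => ?_⟩⟩
    obtain ⟨φ, hφ⟩ := Localization.exists_rightFraction Q S ((Q.objObjPreimageIso Z).hom ≫ a)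
    rw [← cancel_epi (Q.objObjPreimageIso Z).hom, hφ]
    show _ = _ ≫ (Q.objObjPreimageIso Z).inv ≫ Q.map (hO.from_ _)
    rw [Iso.hom_inv_id_assoc]
    haveI := Localization.inverts Q S _ φ.hs
    rw [← cancel_epi (Q.map φ.s), φ.map_s_comp_map, ← Q.map_comp, hO.eq_of_tgt φ.f (φ.s ≫ hO.from_ _)]

lemma isZero_of_map_id_eq {Z : D} (h : Q.map (𝟙 Z) = Q.map (0 : Z ⟶ Z)) : IsZero (Q.obj Z) := by
  refine isZero_of_retract (isZero_obj_zero S Q (isZero_zero D)) (Q.map (0 : Z ⟶ 0)) (Q.map (0 : 0 ⟶ Z)) ?_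
  rw [← Q.map_comp, zero_comp, ← h, Q.map_id]

lemma isZero_iff_left {Z : D} : IsZero (Q.obj Z) ↔ ∃ Z' : D, S (0 : Z ⟶ Z') := by
  constructor
  · intro h
    obtain ⟨Z', s, hs, e⟩ := (MorphismProperty.map_eq_iff_postcomp Q S (𝟙 Z) 0).1 (h.eq_of_src _ _)
    rw [Category.id_comp, zero_comp] at e
    exact ⟨Z', e ▸ hs⟩
  · rintro ⟨Z', hs⟩
    haveI := Localization.inverts Q S _ hs
    refine isZero_of_map_id_eq S Q ((cancel_mono (Q.map (0 : Z ⟶ Z'))).1 ?_)
    rw [← Q.map_comp, ← Q.map_comp, Category.id_comp, zero_comp]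

lemma isZero_iff_right {Z : D} : IsZero (Q.obj Z) ↔ ∃ Z' : D, S (0 : Z' ⟶ Z) := by
  constructor
  · intro h
    obtain ⟨Z', s, hs, e⟩ := (MorphismProperty.map_eq_iff_precomp Q S (𝟙 Z) 0).1 (h.eq_of_src _ _)
    rw [Category.comp_id, comp_zero] at e
    exact ⟨Z', e ▸ hs⟩
  · rintro ⟨Z', hs⟩
    haveI := Localization.inverts Q S _ hs
    refine isZero_of_map_id_eq S Q ((cancel_epi (Q.map (0 : Z' ⟶ Z))).1 ?_)
    rw [← Q.map_comp, ← Q.map_comp, Category.comp_id, comp_zero]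

lemma isZero_of_summand {Z Z' : D} (h : IsZero (Q.obj (Z ⊞ Z'))) : IsZero (Q.obj Z) :=
  isZero_of_retract h (Q.map biprod.inl) (Q.map biprod.fst) (by rw [← Q.map_comp, biprod.inl_fst, Q.map_id])

end Localization

section Biprod

variable (T T' : Triangle D)

/-- The sum of two triangles. -/
noncomputable abbrev sum : Triangle D :=
  Triangle.mk (biprod.map T.mor₁ T'.mor₁) (biprod.map T.mor₂ T'.mor₂)
    (biprod.desc (T.mor₃ ≫ (shiftFunctor D (1 : ℤ)).map biprod.inl) (T'.mor₃ ≫ (shiftFunctor D (1 : ℤ)).map biprod.inr))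

/-- The first projection. -/
noncomputable def sumFst : sum T T' ⟶ T where
  hom₁ := biprod.fst
  hom₂ := biprod.fst
  hom₃ := biprod.fst
  comm₁ := biprod.map_fst _ _
  comm₂ := biprod.map_fst _ _
  comm₃ := by
    apply biprod.hom_ext' <;> simp [← Functor.map_comp]

/-- The second projection. -/
noncomputable def sumSnd : sum T T' ⟶ T' where
  hom₁ := biprod.snd
  hom₂ := biprod.snd
  hom₃ := biprod.snd
  comm₁ := biprod.map_snd _ _
  comm₂ := biprod.map_snd _ _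
  comm₃ := by
    apply biprod.hom_ext' <;> simp [← Functor.map_comp]

lemma sum_distinguished (hT : T ∈ distinguishedTriangles) (hT' : T' ∈ distinguishedTriangles) :
    sum T T' ∈ distinguishedTriangles := by
  let F : WalkingPair → Triangle D := fun j => match j with
    | .left => T
    | .right => T'
  have hF : productTriangle F ∈ distinguishedTriangles :=
    productTriangle_distinguished F (fun j => by cases j <;> assumption)
  let φ : sum T T' ⟶ productTriangle F := productTriangle.lift F (fun j => match j with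
    | .left => sumFst T T'
    | .right => sumSnd T T')
  have h₁ : IsIso φ.hom₁ := ⟨biprod.lift (Pi.π _ WalkingPair.left) (Pi.π _ WalkingPair.right),
    by apply biprod.hom_ext <;> simp [φ, sumFst, sumSnd],
    by apply Pi.hom_ext; rintro (_ | _) <;> simp [φ, sumFst, sumSnd] <;>
      first | exact biprod.lift_fst _ _ | exact biprod.lift_snd _ _⟩
  have h₂ : IsIso φ.hom₂ := ⟨biprod.lift (Pi.π _ WalkingPair.left) (Pi.π _ WalkingPair.right),
    by apply biprod.hom_ext <;> simp [φ, sumFst, sumSnd],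
    by apply Pi.hom_ext; rintro (_ | _) <;> simp [φ, sumFst, sumSnd] <;>
      first | exact biprod.lift_fst _ _ | exact biprod.lift_snd _ _⟩
  have h₃ : IsIso φ.hom₃ := ⟨biprod.lift (Pi.π _ WalkingPair.left) (Pi.π _ WalkingPair.right),
    by apply biprod.hom_ext <;> simp [φ, sumFst, sumSnd],
    by apply Pi.hom_ext; rintro (_ | _) <;> simp [φ, sumFst, sumSnd] <;>
      first | exact biprod.lift_fst _ _ | exact biprod.lift_snd _ _⟩
  haveI := Triangle.isIso_of_isIsos φ h₁ h₂ h₃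
  exact isomorphic_distinguished _ hF _ (asIso φ)

theorem sum_distinguished_iff :
    sum T T' ∈ distinguishedTriangles ↔ T ∈ distinguishedTriangles ∧ T' ∈ distinguishedTriangles := by
  refine ⟨fun h => ?_, fun h => sum_distinguished T T' h.1 h.2⟩
  obtain ⟨Z, g, k, hU⟩ := distinguished_cocone_triangle T.mor₁
  obtain ⟨Z', g', k', hU'⟩ := distinguished_cocone_triangle T'.mor₁
  let ψ := completeDistinguishedTriangleMorphism _ (sum T T') hU h (biprod.inl : T.obj₁ ⟶ _) biprod.inl (biprod.inl_map T.mor₁ T'.mor₁).symm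
  let ψ' := completeDistinguishedTriangleMorphism _ (sum T T') hU' h (biprod.inr : T'.obj₁ ⟶ _) biprod.inr (biprod.inr_map T.mor₁ T'.mor₁).symm
  let φ := ψ ≫ sumFst T T'
  let φ' := ψ' ≫ sumSnd T T'
  have e₁ : φ.hom₁ = 𝟙 _ := biprod.inl_fst
  have e₂ : φ.hom₂ = 𝟙 _ := biprod.inl_fst
  have e₁' : φ'.hom₁ = 𝟙 _ := biprod.inr_snd
  have e₂' : φ'.hom₂ = 𝟙 _ := biprod.inr_snd
  have c₂ : g ≫ φ.hom₃ = T.mor₂ := φ.comm₂.trans (by rw [e₂]; exact Category.id_comp _)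
  have c₂' : g' ≫ φ'.hom₃ = T'.mor₂ := φ'.comm₂.trans (by rw [e₂']; exact Category.id_comp _)
  have c₃ : φ.hom₃ ≫ T.mor₃ = k :=
    φ.comm₃.symm.trans (by rw [e₁, CategoryTheory.Functor.map_id]; exact Category.comp_id _)
  have c₃' : φ'.hom₃ ≫ T'.mor₃ = k' :=
    φ'.comm₃.symm.trans (by rw [e₁', CategoryTheory.Functor.map_id]; exact Category.comp_id _)
  let Φ : sum (Triangle.mk T.mor₁ g k) (Triangle.mk T'.mor₁ g' k') ⟶ sum T T' :=
    { hom₁ := 𝟙 _
      hom₂ := 𝟙 _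
      hom₃ := biprod.map φ.hom₃ φ'.hom₃
      comm₁ := (Category.comp_id _).trans (Category.id_comp _).symm
      comm₂ := by
        show biprod.map g g' ≫ biprod.map φ.hom₃ φ'.hom₃ = 𝟙 _ ≫ biprod.map T.mor₂ T'.mor₂
        refine Eq.trans ?_ (Category.id_comp _).symm
        apply biprod.hom_ext'
        · rw [biprod.inl_map_assoc, biprod.inl_map, biprod.inl_map, ← c₂, Category.assoc]
        · rw [biprod.inr_map_assoc, biprod.inr_map, biprod.inr_map, ← c₂', Category.assoc]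
      comm₃ := by
        show biprod.desc (k ≫ (shiftFunctor D (1 : ℤ)).map biprod.inl) (k' ≫ (shiftFunctor D (1 : ℤ)).map biprod.inr) ≫
          (shiftFunctor D (1 : ℤ)).map (𝟙 _) = biprod.map φ.hom₃ φ'.hom₃ ≫ biprod.desc
            (T.mor₃ ≫ (shiftFunctor D (1 : ℤ)).map biprod.inl) (T'.mor₃ ≫ (shiftFunctor D (1 : ℤ)).map biprod.inr)
        rw [CategoryTheory.Functor.map_id]
        refine (Category.comp_id _).trans ?_
        apply biprod.hom_ext'
        · rw [biprod.inl_desc, biprod.inl_map_assoc, biprod.inl_desc]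
          exact (c₃.symm =≫ _).trans (Category.assoc _ _ _)
        · rw [biprod.inr_desc, biprod.inr_map_assoc, biprod.inr_desc]
          exact (c₃'.symm =≫ _).trans (Category.assoc _ _ _) }
  have hΦ : IsIso Φ.hom₃ := isIso₃_of_isIso₁₂ Φ (sum_distinguished _ _ hU hU') h
    (inferInstanceAs (IsIso (𝟙 _))) (inferInstanceAs (IsIso (𝟙 _)))
  haveI : IsIso (biprod.map φ.hom₃ φ'.hom₃) := hΦ
  let I := inv (biprod.map φ.hom₃ φ'.hom₃)
  have hI : biprod.map φ.hom₃ φ'.hom₃ ≫ I = 𝟙 _ := IsIso.hom_inv_id _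
  have hI' : I ≫ biprod.map φ.hom₃ φ'.hom₃ = 𝟙 _ := IsIso.inv_hom_id _
  have h₃ : IsIso φ.hom₃ := ⟨biprod.inl ≫ I ≫ biprod.fst,
    by rw [← biprod.inl_map_assoc φ.hom₃ φ'.hom₃, reassoc_of% hI]; simp,
    by simp only [Category.assoc]; rw [← biprod.map_fst φ.hom₃ φ'.hom₃, reassoc_of% hI']; simp⟩
  have h₃' : IsIso φ'.hom₃ := ⟨biprod.inr ≫ I ≫ biprod.snd,
    by rw [← biprod.inr_map_assoc φ.hom₃ φ'.hom₃, reassoc_of% hI]; simp,
    by simp only [Category.assoc]; rw [← biprod.map_snd φ.hom₃ φ'.hom₃, reassoc_of% hI']; simp⟩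
  haveI := Triangle.isIso_of_isIsos φ (by rw [e₁]; infer_instance) (by rw [e₂]; infer_instance) h₃
  haveI := Triangle.isIso_of_isIsos φ' (by rw [e₁']; infer_instance) (by rw [e₂']; infer_instance) h₃'
  exact ⟨isomorphic_distinguished _ hU _ (asIso φ).symm, isomorphic_distinguished _ hU' _ (asIso φ').symm⟩

end Biprod

section Bounded

variable {A : Type u'} [Category.{v'} A] [Abelian A] (H : D ⥤ A) [H.IsHomological]

lemma isZero_map_shift₂ {T : Triangle D} (hT : T ∈ distinguishedTriangles) (n : ℤ)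
    (h₁ : IsZero (H.obj (T.obj₁⟦n⟧))) (h₃ : IsZero (H.obj (T.obj₃⟦n⟧))) : IsZero (H.obj (T.obj₂⟦n⟧)) :=
  (H.map_distinguished_exact _ (Triangle.shift_distinguished T hT n)).isZero_of_both_zeros
    (h₁.eq_of_src _ _) (h₃.eq_of_tgt _ _)

end Bounded

end CohDerLib
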