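import Mathlib

/-!
# Termwise split factorizations of morphisms of complexes
-/

set_option autoImplicit false
set_option backward.isDefEq.respectTransparency false
set_option backward.isDefEq.respectTransparency.types false
set_option linter.style.haveILetI false

universe v u

open CategoryTheory CategoryTheory.Limits CochainComplex HomologicalComplex

namespace CohDerLib

variable {V : Type u} [Category.{v} V] [Preadditive V] [HasBinaryBiproducts V] [HasZeroObject V]

lemma isZero_quotient_mappingCone_id (K : CochainComplex V ℤ) :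
    IsZero ((HomotopyCategory.quotient V (ComplexShape.up ℤ)).obj (mappingCone (𝟙 K))) := by
  rw [IsZero.iff_id_eq_zero, ← CategoryTheory.Functor.map_id, ← Functor.map_zero]
  exact HomotopyCategory.eq_of_homotopy _ _ (mappingCone.homotopyToZeroOfId K)

lemma quotient_map_snd_inr {A M : CochainComplex V ℤ}
    (hM : IsZero ((HomotopyCategory.quotient V (ComplexShape.up ℤ)).obj M)) :
    (HomotopyCategory.quotient V (ComplexShape.up ℤ)).map ((biprod.fst : A ⊞ M ⟶ A) ≫ biprod.inl) =
      (HomotopyCategory.quotient V (ComplexShape.up ℤ)).map (𝟙 _) := by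
  rw [← biprod.total (X := A) (Y := M), Functor.map_add, Functor.map_comp _ biprod.snd,
    hM.eq_of_src ((HomotopyCategory.quotient V (ComplexShape.up ℤ)).map biprod.inr) 0, comp_zero, add_zero]

lemma quotient_map_fst_inr {A M : CochainComplex V ℤ}
    (hM : IsZero ((HomotopyCategory.quotient V (ComplexShape.up ℤ)).obj M)) :
    (HomotopyCategory.quotient V (ComplexShape.up ℤ)).map ((biprod.snd : M ⊞ A ⟶ A) ≫ biprod.inr) =
      (HomotopyCategory.quotient V (ComplexShape.up ℤ)).map (𝟙 _) := by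
  rw [← biprod.total (X := M) (Y := A), Functor.map_add, Functor.map_comp _ biprod.fst,
    hM.eq_of_src ((HomotopyCategory.quotient V (ComplexShape.up ℤ)).map biprod.inl) 0, comp_zero, zero_add]

lemma biprod_total_f (A M : CochainComplex V ℤ) (n : ℤ) :
    (biprod.fst : A ⊞ M ⟶ A).f n ≫ (biprod.inl : A ⟶ A ⊞ M).f n +
      (biprod.snd : A ⊞ M ⟶ M).f n ≫ (biprod.inr : M ⟶ A ⊞ M).f n = 𝟙 _ := by
  rw [← comp_f, ← comp_f, ← add_f_apply, biprod.total, id_f]

lemma isZero_biprod_X {A M : CochainComplex V ℤ} {n : ℤ} (hA : IsZero (A.X n)) (hM : IsZero (M.X n)) :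
    IsZero ((A ⊞ M).X n) := by
  rw [IsZero.iff_id_eq_zero, ← biprod_total_f A M n, hA.eq_of_tgt ((biprod.fst : A ⊞ M ⟶ A).f n) 0,
    hM.eq_of_tgt ((biprod.snd : A ⊞ M ⟶ M).f n) 0, zero_comp, zero_comp, add_zero]

section Inj

variable {K L : CochainComplex V ℤ} (α : K ⟶ L)

/-- The target of the split factorization. -/
noncomputable abbrev injObj (_α : K ⟶ L) : CochainComplex V ℤ := L ⊞ mappingCone (𝟙 K)

/-- The split injection. -/
noncomputable abbrev injMap : K ⟶ injObj α := biprod.lift α (mappingCone.inr (𝟙 K))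

/-- The degreewise splitting. -/
noncomputable def injSplit (n : ℤ) : (injObj α).X n ≅ K.X n ⊞ (L.X n ⊞ K.X (n + 1)) where
  hom := biprod.lift ((biprod.snd : injObj α ⟶ _).f n ≫ (mappingCone.snd (𝟙 K)).v n n (add_zero n))
    (biprod.lift ((biprod.fst : injObj α ⟶ _).f n -
        (biprod.snd : injObj α ⟶ _).f n ≫ (mappingCone.snd (𝟙 K)).v n n (add_zero n) ≫ α.f n)
      ((biprod.snd : injObj α ⟶ _).f n ≫ (mappingCone.fst (𝟙 K)).1.v n (n + 1) rfl))
  inv := biprod.desc ((injMap α).f n) (biprod.desc ((biprod.inl : L ⟶ injObj α).f n)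
    ((mappingCone.inl (𝟙 K)).v (n + 1) n (by omega) ≫ (biprod.inr : _ ⟶ injObj α).f n))
  hom_inv_id := by
    have hl : (injMap α).f n = α.f n ≫ (biprod.inl : L ⟶ injObj α).f n +
        (mappingCone.inr (𝟙 K)).f n ≫ (biprod.inr : _ ⟶ injObj α).f n := by
      rw [← comp_f, ← comp_f, ← add_f_apply, ← biprod.lift_eq]
    simp only [biprod.lift_desc, hl, Preadditive.comp_add, Preadditive.sub_comp, Category.assoc]
    conv_rhs => rw [← biprod_total_f L (mappingCone (𝟙 K)) n, ← Category.id_comp ((biprod.inr : _ ⟶ injObj α).f n),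
      ← mappingCone.id_X (𝟙 K) n (n + 1) rfl]
    simp only [Preadditive.add_comp, Preadditive.comp_add, Category.assoc]
    abel
  inv_hom_id := by
    have h₁ : (injMap α).f n ≫ (biprod.fst : injObj α ⟶ _).f n = α.f n := by
      rw [← comp_f, biprod.lift_fst]
    have h₂ : (injMap α).f n ≫ (biprod.snd : injObj α ⟶ _).f n = (mappingCone.inr (𝟙 K)).f n := by
      rw [← comp_f, biprod.lift_snd]
    apply biprod.hom_ext'
    · apply biprod.hom_ext
      · simp [reassoc_of% h₂]
      · apply biprod.hom_ext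
        · simp [h₁, reassoc_of% h₂]
        · simp [reassoc_of% h₂]
    · apply biprod.hom_ext' <;> apply biprod.hom_ext
      · simp [← comp_f_assoc]
      · apply biprod.hom_ext <;> simp [← comp_f_assoc]
      · simp [← comp_f_assoc]
      · apply biprod.hom_ext <;> simp [← comp_f_assoc, ← comp_f]

lemma injMap_f_split (n : ℤ) : (injMap α).f n ≫ (injSplit α n).hom = biprod.inl := by
  rw [← cancel_mono (injSplit α n).inv, Category.assoc, Iso.hom_inv_id, Category.comp_id]
  simp [injSplit]

lemma isStrictlyGE_injObj (a : ℤ) [K.IsStrictlyGE a] [L.IsStrictlyGE a] : (injObj α).IsStrictlyGE (a - 1) := by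
  rw [CochainComplex.isStrictlyGE_iff]
  intro i hi
  exact isZero_biprod_X (L.isZero_of_isStrictlyGE a i (by omega)) ((mappingCone.isZero_X_iff _ _).2
    ⟨K.isZero_of_isStrictlyGE a _ (by omega), K.isZero_of_isStrictlyGE a _ (by omega)⟩)

lemma isStrictlyLE_injObj (a : ℤ) [K.IsStrictlyLE a] [L.IsStrictlyLE a] : (injObj α).IsStrictlyLE a := by
  rw [CochainComplex.isStrictlyLE_iff]
  intro i hi
  exact isZero_biprod_X (L.isZero_of_isStrictlyLE a i (by omega)) ((mappingCone.isZero_X_iff _ _).2
    ⟨K.isZero_of_isStrictlyLE a _ (by omega), K.isZero_of_isStrictlyLE a _ (by omega)⟩)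

/-- The homotopy equivalence with the target. -/
noncomputable def injEquiv : HomotopyEquiv (injObj α) L where
  hom := biprod.fst
  inv := biprod.inl
  homotopyHomInvId :=
    HomotopyCategory.homotopyOfEq _ _ (quotient_map_snd_inr (isZero_quotient_mappingCone_id K))
  homotopyInvHomId := Homotopy.ofEq biprod.inl_fst

end Inj

section Surj

variable {K L : CochainComplex V ℤ} (α : K ⟶ L)

/-- The source of the split factorization. -/
noncomputable abbrev surjObj (_α : K ⟶ L) : CochainComplex V ℤ := K ⊞ mappingCocone (𝟙 L)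

/-- The split surjection. -/
noncomputable abbrev surjMap : surjObj α ⟶ L := biprod.desc α (mappingCocone.fst (𝟙 L))

lemma isZero_quotient_mappingCocone_id (L : CochainComplex V ℤ) :
    IsZero ((HomotopyCategory.quotient V (ComplexShape.up ℤ)).obj (mappingCocone (𝟙 L))) :=
  (Functor.map_isZero (CategoryTheory.shiftFunctor _ (-1 : ℤ)) (isZero_quotient_mappingCone_id L)).of_iso
    (((HomotopyCategory.quotient V (ComplexShape.up ℤ)).commShiftIso (-1 : ℤ)).app _)

/-- The degreewise splitting. -/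
noncomputable def surjSplit (n : ℤ) : (surjObj α).X n ≅ (K.X n ⊞ L.X (n + -1)) ⊞ L.X n where
  hom := biprod.lift (biprod.lift ((biprod.fst : surjObj α ⟶ _).f n)
      ((biprod.snd : surjObj α ⟶ _).f n ≫ (mappingCocone.snd (𝟙 L)).v n (n + -1) rfl)) ((surjMap α).f n)
  inv := biprod.desc (biprod.desc ((biprod.inl : K ⟶ surjObj α).f n -
        α.f n ≫ (mappingCocone.inl (𝟙 L)).v n n (add_zero n) ≫ (biprod.inr : _ ⟶ surjObj α).f n)
      ((mappingCocone.inr (𝟙 L)).1.v (n + -1) n (by omega) ≫ (biprod.inr : _ ⟶ surjObj α).f n))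
    ((mappingCocone.inl (𝟙 L)).v n n (add_zero n) ≫ (biprod.inr : _ ⟶ surjObj α).f n)
  hom_inv_id := by
    have hl : (surjMap α).f n = (biprod.fst : surjObj α ⟶ _).f n ≫ α.f n +
        (biprod.snd : surjObj α ⟶ _).f n ≫ (mappingCocone.fst (𝟙 L)).f n := by
      rw [← comp_f, ← comp_f, ← add_f_apply, ← biprod.desc_eq]
    simp only [biprod.lift_desc, hl, Preadditive.comp_sub, Preadditive.add_comp, Category.assoc]
    conv_rhs => rw [← biprod_total_f K (mappingCocone (𝟙 L)) n, ← Category.id_comp ((biprod.inr : _ ⟶ surjObj α).f n),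
      ← mappingCocone.id_X (𝟙 L) n (n + -1) rfl]
    simp only [Preadditive.add_comp, Preadditive.comp_add, Category.assoc]
    abel
  inv_hom_id := by
    have h₁ : (biprod.inl : K ⟶ surjObj α).f n ≫ (surjMap α).f n = α.f n := by
      rw [← comp_f, biprod.inl_desc]
    have h₂ : (biprod.inr : _ ⟶ surjObj α).f n ≫ (surjMap α).f n = (mappingCocone.fst (𝟙 L)).f n := by
      rw [← comp_f, biprod.inr_desc]
    apply biprod.hom_ext'
    · apply biprod.hom_ext'
      · apply biprod.hom_ext
        · apply biprod.hom_ext <;> simp [← comp_f_assoc, ← comp_f]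
        · simp [h₁, h₂]
      · apply biprod.hom_ext
        · apply biprod.hom_ext <;> simp [← comp_f_assoc, ← comp_f]
        · simp [h₂]
    · apply biprod.hom_ext
      · apply biprod.hom_ext <;> simp [← comp_f_assoc, ← comp_f]
      · simp [h₂]

lemma surjSplit_inv_map (n : ℤ) : (surjSplit α n).inv ≫ (surjMap α).f n = biprod.snd := by
  rw [← cancel_epi (surjSplit α n).hom, Iso.hom_inv_id_assoc]
  simp [surjSplit]

lemma isStrictlyGE_surjObj (a : ℤ) [K.IsStrictlyGE a] [L.IsStrictlyGE a] : (surjObj α).IsStrictlyGE a := by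
  rw [CochainComplex.isStrictlyGE_iff]
  intro i hi
  refine isZero_biprod_X (K.isZero_of_isStrictlyGE a i (by omega)) ?_
  rw [IsZero.iff_id_eq_zero, ← mappingCocone.id_X (𝟙 L) i (i + -1) rfl,
    (L.isZero_of_isStrictlyGE a i (by omega)).eq_of_tgt ((mappingCocone.fst (𝟙 L)).f i) 0,
    (L.isZero_of_isStrictlyGE a _ (by omega)).eq_of_tgt ((mappingCocone.snd (𝟙 L)).v i (i + -1) rfl) 0,
    zero_comp, zero_comp, add_zero]

lemma isStrictlyLE_surjObj (a : ℤ) [K.IsStrictlyLE a] [L.IsStrictlyLE a] : (surjObj α).IsStrictlyLE (a + 1) := by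
  rw [CochainComplex.isStrictlyLE_iff]
  intro i hi
  refine isZero_biprod_X (K.isZero_of_isStrictlyLE a i (by omega)) ?_
  rw [IsZero.iff_id_eq_zero, ← mappingCocone.id_X (𝟙 L) i (i + -1) rfl,
    (L.isZero_of_isStrictlyLE a i (by omega)).eq_of_tgt ((mappingCocone.fst (𝟙 L)).f i) 0,
    (L.isZero_of_isStrictlyLE a _ (by omega)).eq_of_tgt ((mappingCocone.snd (𝟙 L)).v i (i + -1) rfl) 0,
    zero_comp, zero_comp, add_zero]

end Surj

end CohDerLib
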